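import Groth.Prelude.Def_Mor2
import Mathlib.RingTheory.Regular.Flat
import Mathlib.AlgebraicGeometry.Morphisms.ClosedImmersion

/-!
# Composites of regular closed immersions
-/

set_option autoImplicit false
set_option linter.style.haveILetI false

universe u

open CategoryTheory CategoryTheory.Limits AlgebraicGeometry RingTheory.Sequence

namespace Groth.L16.RegComp

/-- Concatenation of weakly regular sequences along a surjection. -/
theorem isWeaklyRegular_append {A B : Type*} [CommRing A] [CommRing B] (σ : A →+* B)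
    (hσ : Function.Surjective σ) (rs gs : List A) (hk : RingHom.ker σ = Ideal.ofList rs)
    (hrs : IsWeaklyRegular A rs) (hgs : IsWeaklyRegular B (gs.map σ)) :
    IsWeaklyRegular A (rs ++ gs) := by
  letI := σ.toAlgebra
  refine (isWeaklyRegular_append_iff A rs gs).2 ⟨hrs, ?_⟩
  have hI : (Ideal.ofList rs • ⊤ : Submodule A A) = LinearMap.ker (Algebra.linearMap A B) := by
    rw [smul_eq_mul]
    ext a
    rw [Ideal.mul_top, ← hk]
    rfl
  rw [((Submodule.quotEquivOfEq _ _ hI).trans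
    ((Algebra.linearMap A B).quotKerEquivOfSurjective hσ)).isWeaklyRegular_congr]
  exact (isWeaklyRegular_map_algebraMap_iff B B gs).1 hgs

/-- Regular sequences restrict to basic opens. -/
theorem isWeaklyRegular_basicOpen {X : Scheme.{u}} {U : X.Opens} (hU : IsAffineOpen U) (b : Γ(X, U))
    {rs : List Γ(X, U)} (h : IsWeaklyRegular Γ(X, U) rs) :
    IsWeaklyRegular Γ(X, X.basicOpen b)
      (rs.map (X.presheaf.map (homOfLE (X.basicOpen_le b)).op).hom) := by
  haveI := hU.isLocalization_basicOpen b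
  haveI : Module.Flat Γ(X, U) Γ(X, X.basicOpen b) := IsLocalization.flat _ (Submonoid.powers b)
  exact h.of_flat

/-- Variant for an open equal to a basic open. -/
theorem isWeaklyRegular_of_eq {X : Scheme.{u}} {U O : X.Opens} (hU : IsAffineOpen U) (b : Γ(X, U))
    (hO : O = X.basicOpen b) (hle : O ≤ U) {rs : List Γ(X, U)} (h : IsWeaklyRegular Γ(X, U) rs) :
    IsWeaklyRegular Γ(X, O) (rs.map (X.presheaf.map (homOfLE hle).op).hom) := by
  subst hO
  exact isWeaklyRegular_basicOpen hU b h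

variable {Z Y X : Scheme.{u}}

/-- Composites of regular closed immersions. -/
theorem isRegularClosedImmersion_comp (i : Z ⟶ Y) (j : Y ⟶ X)
    (hi : Mor2.IsRegularClosedImmersion i) (hj : Mor2.IsRegularClosedImmersion j) :
    Mor2.IsRegularClosedImmersion (i ≫ j) := by
  haveI := hi.1
  haveI := hj.1
  refine ⟨inferInstance, fun z => ?_⟩
  obtain ⟨W, hW, hzW, rs, hrs, hk⟩ := hj.2 (i z)
  obtain ⟨V, hV, hzV, rs', hrs', hk'⟩ := hi.2 z
  have hWY : IsAffineOpen (j ⁻¹ᵁ W) := hW.preimage j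
  obtain ⟨a', ha'⟩ := exists_basicOpen_le_affine_inter hWY hV (i z) ⟨hzW, hzV⟩
  obtain ⟨t', ht', hzt'⟩ := ha'
  obtain ⟨b, rfl⟩ := j.app_surjective W hW a'
  let W' : X.Opens := X.basicOpen b
  have hpre : j ⁻¹ᵁ W' = Y.basicOpen (j.app W b) := j.preimage_basicOpen b
  have hW' : IsAffineOpen W' := hW.basicOpen b
  have hW'Y : IsAffineOpen (j ⁻¹ᵁ W') := hW'.preimage j
  let σ := (j.app W').hom
  have hσ : Function.Surjective σ := j.app_surjective W' hW'
  have hle' : j ⁻¹ᵁ W' ≤ V := by rw [hpre, ht']; exact Y.basicOpen_le t'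
  let gs' := rs'.map (Y.presheaf.map (homOfLE hle').op).hom
  let gs := gs'.map (Function.surjInv hσ)
  have hgs : gs.map σ = gs' := by
    rw [List.map_map]
    exact (List.map_congr_left fun x _ => Function.surjInv_eq hσ x).trans (List.map_id gs')
  let fs := rs.map (X.presheaf.map (homOfLE (X.basicOpen_le b)).op).hom
  have hkσ : RingHom.ker σ = Ideal.ofList fs := by
    rw [← Scheme.Hom.ker_apply j ⟨W', hW'⟩, ← Ideal.map_ofList, ← hk]
    exact (Scheme.IdealSheafData.map_ideal j.ker (U := ⟨W', hW'⟩) (V := ⟨W, hW⟩)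
      (X.basicOpen_le b)).symm
  have hk2 : RingHom.ker (i.app (j ⁻¹ᵁ W')).hom = Ideal.ofList gs' := by
    rw [← Scheme.Hom.ker_apply i ⟨_, hW'Y⟩, ← Ideal.map_ofList, ← hk']
    exact (Scheme.IdealSheafData.map_ideal i.ker (U := ⟨_, hW'Y⟩) (V := ⟨V, hV⟩) hle').symm
  have hw2 : IsWeaklyRegular Γ(Y, j ⁻¹ᵁ W') gs' :=
    isWeaklyRegular_of_eq hV t' (hpre.trans ht') hle' hrs'.toIsWeaklyRegular
  have hker : (i ≫ j).ker.ideal ⟨W', hW'⟩ = Ideal.ofList (fs ++ gs) := by
    rw [Scheme.Hom.ker_apply]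
    have hc : ((i ≫ j).app W').hom = (i.app (j ⁻¹ᵁ W')).hom.comp σ := by
      rw [Scheme.Hom.comp_app]; rfl
    show RingHom.ker ((i ≫ j).app W').hom = _
    rw [hc]
    refine (RingHom.comap_ker _ σ).symm.trans ?_
    refine (congrArg (Ideal.comap σ) hk2).trans ?_
    rw [← hgs, ← Ideal.map_ofList, Ideal.comap_map_of_surjective σ hσ, ← RingHom.ker_eq_comap_bot,
      hkσ, Ideal.ofList_append, sup_comm]
  have hz' : (i ≫ j) z ∈ W' := by
    show i z ∈ j ⁻¹ᵁ W'
    rw [hpre]; exact hzt'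
  refine ⟨W', hW', hz', fs ++ gs, ⟨isWeaklyRegular_append σ hσ fs gs hkσ
    (isWeaklyRegular_basicOpen hW b hrs.toIsWeaklyRegular) (hgs.symm ▸ hw2), ?_⟩, hker⟩
  rw [← hker, smul_eq_mul, Ideal.mul_top, Scheme.Hom.ker_apply]
  refine fun htop => ?_
  haveI : Nonempty ((i ≫ j) ⁻¹ᵁ W' : Z.Opens) := ⟨⟨z, hz'⟩⟩
  have h1 : (1 : Γ(X, W')) ∈ RingHom.ker ((i ≫ j).app W').hom := by
    rw [← htop]; exact Submodule.mem_top
  rw [RingHom.mem_ker, map_one] at h1
  exact one_ne_zero h1

end Groth.L16.RegComp
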